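import Groth.Agent.EtModWLib.StalkFinite

/-! local constancy of finite type descends along surjective immersions -/

universe u

open CategoryTheory CategoryTheory.Limits AlgebraicGeometry Opposite Topology

namespace Groth.Agent.EtModWLib

open FTConst (Chart)

set_option backward.isDefEq.respectTransparency.types false

variable {Λ : Type (u + 1)} [CommRing Λ]

/-- field-valued points whose image is in an immersion lift to it -/
theorem exists_point_lift {T Y : Scheme.{u}} (i : T ⟶ Y) [IsPreimmersion i] {K : Type u} [Field K]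
    (ξ : Spec (CommRingCat.of K) ⟶ Y) (t : T) (h : i.base t = ξ.base (IsLocalRing.closedPoint K)) :
    ∃ ξ' : Spec (CommRingCat.of K) ⟶ T, ξ' ≫ i = ξ ∧ ξ'.base (IsLocalRing.closedPoint K) = t := by
  obtain ⟨⟨y, φ⟩, rfl⟩ := (Scheme.SpecToEquivOfField K Y).symm.surjective ξ
  simp only [Scheme.SpecToEquivOfField_symm_apply, Scheme.Hom.comp_apply, Scheme.fromSpecResidueField_apply] at h ⊢
  subst h
  have hs : Function.Surjective (i.residueFieldMap t) := fun a => by
    obtain ⟨b, rfl⟩ := T.residue_surjective t a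
    obtain ⟨c, rfl⟩ := i.stalkMap_surjective t b
    exact ⟨Y.residue _ c, ConcreteCategory.congr_hom (Scheme.residue_residueFieldMap i t) c⟩
  have : IsIso (i.residueFieldMap t) :=
    (ConcreteCategory.isIso_iff_bijective _).2 ⟨(i.residueFieldMap t).hom.injective, hs⟩
  refine ⟨Spec.map (inv (i.residueFieldMap t) ≫ φ) ≫ T.fromSpecResidueField t, ?_, ?_⟩
  · rw [Category.assoc, ← Scheme.Hom.SpecMap_residueFieldMap_fromSpecResidueField, ← Category.assoc,
      ← Spec.map_comp, IsIso.hom_inv_id_assoc]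
  · exact (Scheme.Hom.comp_apply _ _ _).trans (Scheme.fromSpecResidueField_apply _ _)

/-- a chart of the pullback along an immersion gives a chart near any point interior to its image -/
theorem exists_chart_of_pull [IsNoetherianRing Λ] {T Y : Scheme.{u}} (i : T ⟶ Y) [IsImmersion i]
    {G : EtModW.Mod Λ Y} (h : EtModW.IsFTLocConst Λ ((EtModW.pull Λ i).obj G)) (N : Y.Opens)
    (hN : (N : Set Y) ⊆ Set.range i.base) {t : T} (htN : i.base t ∈ N) :
    ∃ (U : Y.Etale) (p : U.left), U.hom.base p = i.base t ∧ Nonempty (Chart G U) := by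
  obtain ⟨U, p, hp, ⟨c⟩⟩ := FTConst.exists_chart h t
  obtain ⟨Ω, _, _, ξ, z, hz⟩ := EtFound.exists_algClosed_point U p
  let Φ := Scheme.pointSmallEtale (ξ ≫ i)
  let Φ' := Scheme.pointSmallEtale ξ
  let e : c.M ≅ (EtModW.stalk Λ (ξ ≫ i)).obj G :=
    (LinearEquiv.ofBijective (c.φ ≫ Φ'.toPresheafFiber U z _).hom (c.const Ω ξ z)).toModuleIso ≪≫
      (EtFound.sheafFiberPullIso i ξ).app G
  have : Module.Finite Λ ((EtModW.stalk Λ (ξ ≫ i)).obj G) := Module.Finite.equiv e.toLinearEquiv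
  obtain ⟨n, g, hg⟩ := Module.Finite.exists_fin (R := Λ) (M := (EtModW.stalk Λ (ξ ≫ i)).obj G)
  -- lift the stalk to a finite module of sections
  obtain ⟨V₀, v₀, -⟩ := Φ.toPresheafFiber_jointly_surjective (0 : (EtModW.stalk Λ (ξ ≫ i)).obj G)
  obtain ⟨V₁, -, v₁, s, -, hs⟩ := FTConst.exists_forall_rep G v₀ g
  let l : (Fin n → Λ) →ₗ[Λ] G.obj.obj (op V₁) := Fintype.linearCombination Λ s
  let π : (Fin n → Λ) →ₗ[Λ] (EtModW.stalk Λ (ξ ≫ i)).obj G := Fintype.linearCombination Λ g
  have hlπ : ∀ a, Φ.toPresheafFiber V₁ v₁ G.obj (l a) = π a := fun a => by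
    simp only [l, π, Fintype.linearCombination_apply, map_sum]
    refine Finset.sum_congr rfl fun k _ => ?_
    rw [← hs k]
    exact map_smul (Φ.toPresheafFiber V₁ v₁ G.obj).hom (a k) (s k)
  have hπ : Function.Surjective π := by
    rw [← LinearMap.range_eq_top, Fintype.range_linearCombination, hg]
  obtain ⟨m, k, hk⟩ := Submodule.fg_iff_exists_fin_generating_family.1 (IsNoetherian.noetherian (LinearMap.ker π))
  obtain ⟨V, r, v, hv', hr⟩ := EtFound.exists_forall_eq G.obj v₁ (fun j => l (k j)) (fun _ => 0) (fun j => by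
    refine (hlπ _).trans ((LinearMap.mem_ker.1 (hk.le (Submodule.subset_span ⟨j, rfl⟩))).trans ?_)
    exact (map_zero (Φ.toPresheafFiber V₁ v₁ G.obj).hom).symm)
  let l' : (Fin n → Λ) →ₗ[Λ] G.obj.obj (op V) := (G.obj.map r.op).hom.comp l
  have hker : LinearMap.ker π ≤ LinearMap.ker l' := by
    rw [← hk, Submodule.span_le]
    rintro _ ⟨j, rfl⟩
    exact (hr j).trans (map_zero (G.obj.map r.op).hom)
  let M : ModuleCat.{u + 1} Λ := ModuleCat.of Λ ((Fin n → Λ) ⧸ LinearMap.ker π)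
  let φ : M ⟶ G.obj.obj (op V) := ModuleCat.ofHom ((LinearMap.ker π).liftQ l' hker)
  -- on the immersion
  let z₁ : Φ'.fiber.obj ((EtCoh.bc i).obj V) := (EtFound.bcFiberEquiv i ξ V).symm v
  let ψ : M ⟶ ((EtModW.pull Λ i).obj G).obj.obj (op ((EtCoh.bc i).obj V)) :=
    φ ≫ (((EtCoh.bc i).sheafAdjunctionContinuous (ModuleCat.{u + 1} Λ) Y.smallEtaleTopology
      T.smallEtaleTopology).unit.app G).hom.app (op V)
  obtain ⟨⟨W₁, w₁⟩, ⟨a₀, ha₀⟩, ⟨b₀, hb₀⟩, -⟩ := IsCofilteredOrEmpty.cone_objs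
    (Φ'.fiber.elementsMk ((EtCoh.bc i).obj V) z₁) (Φ'.fiber.elementsMk U z)
  obtain ⟨a, ha⟩ : ∃ a : W₁ ⟶ (EtCoh.bc i).obj V, Φ'.fiber.map a w₁ = z₁ := ⟨a₀, ha₀⟩
  obtain ⟨b, hb⟩ : ∃ b : W₁ ⟶ U, Φ'.fiber.map b w₁ = z := ⟨b₀, hb₀⟩
  let ψ₁ := ψ ≫ ((EtModW.pull Λ i).obj G).obj.map a.op
  let c₁ := c.restrict b
  let κ := c₁.φ ≫ Φ'.toPresheafFiber W₁ w₁ ((EtModW.pull Λ i).obj G).obj
  have : IsIso κ := (ConcreteCategory.isIso_iff_bijective _).2 (c₁.const Ω ξ w₁)
  let α := ψ₁ ≫ Φ'.toPresheafFiber W₁ w₁ ((EtModW.pull Λ i).obj G).obj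
  have hα : Function.Bijective α := by
    have e1 : α = (φ ≫ Φ.toPresheafFiber V v G.obj) ≫ (EtFound.sheafFiberPullIso i ξ).inv.app G := by
      rw [Category.assoc]
      have h2 : Φ.toPresheafFiber V v G.obj = Φ.toPresheafFiber V (EtFound.bcFiberEquiv i ξ V z₁) G.obj := by
        rw [Equiv.apply_symm_apply]
      rw [h2, EtFound.sheafFiberPullIso_germ]
      simp only [α, ψ₁, ψ, Category.assoc]
      rw [Φ'.toPresheafFiber_w, ha]
      rfl
    rw [e1]
    refine ((ConcreteCategory.isIso_iff_bijective _).1 (inferInstance :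
      IsIso ((EtFound.sheafFiberPullIso i ξ).inv.app G))).comp ?_
    have e2 : ∀ a : Fin n → Λ, (φ ≫ Φ.toPresheafFiber V v G.obj) (Submodule.Quotient.mk a) = π a := fun a => by
      refine (ConcreteCategory.comp_apply _ _ _).trans ?_
      refine (Φ.toPresheafFiber_w_apply r v G.obj (l a)).trans ?_
      rw [hv']
      exact hlπ a
    refine ⟨?_, fun q => ?_⟩
    · refine (injective_iff_map_eq_zero _).2 fun q hq => ?_
      obtain ⟨a, rfl⟩ := Submodule.Quotient.mk_surjective _ q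
      exact (Submodule.Quotient.mk_eq_zero _).2 ((e2 a).symm.trans hq)
    · obtain ⟨a, rfl⟩ := hπ q
      exact ⟨Submodule.Quotient.mk a, e2 a⟩
  let θ : M ⟶ c₁.M := α ≫ inv κ
  have hθ : IsIso θ := by
    have : IsIso α := (ConcreteCategory.isIso_iff_bijective _).2 hα
    infer_instance
  obtain ⟨W, q, w, hw, hq⟩ := EtFound.exists_forall_eq ((EtModW.pull Λ i).obj G).obj w₁
    (fun j : Fin n => ψ₁ (Submodule.Quotient.mk (Pi.single j 1))) (fun j => c₁.φ (θ (Submodule.Quotient.mk (Pi.single j 1))))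
    (fun j => by
      have : θ ≫ κ = α := by simp [θ]
      exact (ConcreteCategory.congr_hom this.symm _).trans rfl)
  have hWψ : ∀ x, ((EtModW.pull Λ i).obj G).obj.map q.op (ψ₁ x) = (c₁.restrict q).φ (θ x) := by
    have e : ψ₁ ≫ ((EtModW.pull Λ i).obj G).obj.map q.op = θ ≫ (c₁.restrict q).φ := by
      refine ModuleCat.hom_ext (Submodule.linearMap_qext _ (LinearMap.pi_ext' fun j => LinearMap.ext_ring ?_))
      exact hq j
    exact ConcreteCategory.congr_hom e
  -- the open subscheme of `V` under `W`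
  let pr : ((EtCoh.bc i).obj V).left ⟶ V.left := pullback.fst V.hom i
  have : IsImmersion pr := MorphismProperty.pullback_fst _ _ ‹_›
  let f : W ⟶ (EtCoh.bc i).obj V := q ≫ a
  have := EtFound.etale_left f
  obtain ⟨O₀, hO₀, hOP⟩ := pr.isEmbedding.isInducing.isOpen_iff.1 f.left.isOpenMap.isOpen_range
  let O : V.left.Opens := ⟨O₀, hO₀⟩ ⊓ (V.hom : V.left ⟶ Y) ⁻¹ᵁ N
  have : AlgebraicGeometry.Etale V.hom := V.prop
  let V' : Y.Etale := Scheme.Etale.mk (O.ι ≫ V.hom)
  let r' : V' ⟶ V := MorphismProperty.Over.homMk O.ι rfl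
  have hpt : pr.base ((z₁.left : Spec (CommRingCat.of Ω) ⟶ ((EtCoh.bc i).obj V).left).base (default : Spec (CommRingCat.of Ω))) =
      (v.left : Spec (CommRingCat.of Ω) ⟶ V.left).base (default : Spec (CommRingCat.of Ω)) := by
    refine (Scheme.Hom.comp_apply _ _ _).symm.trans ?_
    exact congrArg (fun g : Spec (CommRingCat.of Ω) ⟶ V.left => g.base (default : Spec (CommRingCat.of Ω))) (pullback.lift_fst _ _ _)
  have hbase : V.hom.base ((v.left : Spec (CommRingCat.of Ω) ⟶ V.left).base (default : Spec (CommRingCat.of Ω))) =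
      i.base t := by
    refine (EtFound.base_of_point v).trans ((Scheme.Hom.comp_apply _ _ _).trans (congrArg i.base ?_))
    exact (EtFound.base_of_point z).symm.trans ((congrArg _ hz).trans hp)
  have hvO : (v.left : Spec (CommRingCat.of Ω) ⟶ V.left).base (default : Spec (CommRingCat.of Ω)) ∈ O := by
    refine ⟨?_, show V.hom.base _ ∈ N from hbase.symm ▸ htN⟩
    rw [← hpt]
    refine hOP.ge ⟨(w.left : Spec (CommRingCat.of Ω) ⟶ W.left).base (default : Spec (CommRingCat.of Ω)), ?_⟩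
    rw [show z₁ = Φ'.fiber.map f w by rw [Functor.map_comp_apply, hw, ha]]
    exact (Scheme.Hom.comp_apply _ _ _).symm
  refine ⟨V', ⟨_, hvO⟩, ?_, ⟨{ M := M, φ := φ ≫ G.obj.map r'.op, const := ?_ }⟩⟩
  · exact (Scheme.Hom.comp_apply _ _ _).trans hbase
  intro K _ _ ζ y
  obtain ⟨t', ht'⟩ : ζ.base (IsLocalRing.closedPoint K) ∈ Set.range i.base := by
    refine hN ?_
    have h1 := ((y.left : Spec (CommRingCat.of K) ⟶ O.toScheme).base (default : Spec (CommRingCat.of K))).2.2
    rw [← Subsingleton.elim (α := Spec (CommRingCat.of K)) default (IsLocalRing.closedPoint K),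
      ← EtFound.base_of_point y]
    exact (Scheme.Hom.comp_apply _ _ _).symm ▸ h1
  obtain ⟨ζ', rfl, -⟩ := exists_point_lift i ζ t' ht'
  let y₀ := (Scheme.pointSmallEtale (ζ' ≫ i)).fiber.map r' y
  let y₁ := (EtFound.bcFiberEquiv i ζ' V).symm y₀
  have hy₁ : pr.base ((y₁.left : Spec (CommRingCat.of K) ⟶ ((EtCoh.bc i).obj V).left).base (default : Spec (CommRingCat.of K))) ∈ O := by
    have h1 : pr.base ((y₁.left : Spec (CommRingCat.of K) ⟶ ((EtCoh.bc i).obj V).left).base (default : Spec (CommRingCat.of K))) =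
        (y₀.left : Spec (CommRingCat.of K) ⟶ V.left).base (default : Spec (CommRingCat.of K)) :=
      (Scheme.Hom.comp_apply _ _ _).symm.trans
        (congrArg (fun g : Spec (CommRingCat.of K) ⟶ V.left => g.base (default : Spec (CommRingCat.of K))) (pullback.lift_fst _ _ _))
    rw [h1]
    exact ((y.left : Spec (CommRingCat.of K) ⟶ O.toScheme).base (default : Spec (CommRingCat.of K))).2
  obtain ⟨x, hx⟩ := hOP.le hy₁.1
  obtain ⟨x', hx', -⟩ := EtFound.exists_lift_point f y₁ x hx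
  have hb1 : Function.Bijective (ψ₁ ≫ ((EtModW.pull Λ i).obj G).obj.map q.op ≫
      (Scheme.pointSmallEtale ζ').toPresheafFiber W x' ((EtModW.pull Λ i).obj G).obj) := by
    refine Eq.mp (congrArg Function.Bijective (funext fun m => ?_))
      (((c₁.restrict q).const K ζ' x').comp ((ConcreteCategory.isIso_iff_bijective θ).1 hθ))
    simp only [Function.comp_apply, ConcreteCategory.comp_apply]
    rw [hWψ]
  have e4 : ψ₁ ≫ ((EtModW.pull Λ i).obj G).obj.map q.op ≫
      (Scheme.pointSmallEtale ζ').toPresheafFiber W x' ((EtModW.pull Λ i).obj G).obj =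
      ((φ ≫ G.obj.map r'.op) ≫ (Scheme.pointSmallEtale (ζ' ≫ i)).toPresheafFiber V' y G.obj) ≫
        (EtFound.sheafFiberPullIso i ζ').inv.app G := by
    simp only [Category.assoc]
    rw [(Scheme.pointSmallEtale (ζ' ≫ i)).toPresheafFiber_w_assoc]
    have h2 : (Scheme.pointSmallEtale (ζ' ≫ i)).toPresheafFiber V y₀ G.obj =
        (Scheme.pointSmallEtale (ζ' ≫ i)).toPresheafFiber V (EtFound.bcFiberEquiv i ζ' V y₁) G.obj := by
      rw [Equiv.apply_symm_apply]
    rw [show (Scheme.pointSmallEtale (ζ' ≫ i)).fiber.map r' y = y₀ from rfl, h2, EtFound.sheafFiberPullIso_germ]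
    simp only [ψ₁, ψ, Category.assoc]
    rw [← hx', Functor.map_comp_apply, (Scheme.pointSmallEtale ζ').toPresheafFiber_w,
      (Scheme.pointSmallEtale ζ').toPresheafFiber_w]
    rfl
  rw [e4] at hb1
  let γ := (EtFound.sheafFiberPullIso (A := ModuleCat.{u + 1} Λ) i ζ').inv.app G
  exact (Function.Bijective.of_comp_iff' ((ConcreteCategory.isIso_iff_bijective γ).1 inferInstance) _).1 hb1

/-- a sheaf is locally constant of finite type once its pullback along a surjective immersion is -/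
theorem isFTLocConst_of_pull_surjective [IsNoetherianRing Λ] {T Y : Scheme.{u}} (i : T ⟶ Y) [IsImmersion i]
    [Surjective i] {G : EtModW.Mod Λ Y} (h : EtModW.IsFTLocConst Λ ((EtModW.pull Λ i).obj G)) :
    EtModW.IsFTLocConst Λ G :=
  FTConst.isFTLocConst_of_charts _ fun y => by
    obtain ⟨t, rfl⟩ := i.surjective y
    exact exists_chart_of_pull i h ⊤ (fun y _ => i.surjective y) (t := t) trivial

/-- local constancy of finite type is local for the Zariski topology -/
theorem isFTLocConst_of_openCover [IsNoetherianRing Λ] {Y : Scheme.{u}} {G : EtModW.Mod Λ Y}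
    (h : ∀ y : Y, ∃ O : Y.Opens, y ∈ O ∧ EtModW.IsFTLocConst Λ ((EtModW.pull Λ O.ι).obj G)) :
    EtModW.IsFTLocConst Λ G :=
  FTConst.isFTLocConst_of_charts _ fun y => by
    obtain ⟨O, hy, hO⟩ := h y
    exact exists_chart_of_pull O.ι hO O O.range_ι.ge (t := ⟨y, hy⟩) hy

end Groth.Agent.EtModWLib
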