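import Groth.Agent.EtModWLib.Uniform.Generic
import Groth.Agent.EtModWLib.Uniform.Descend
import Groth.Agent.EtFound.StrataFamily

/-! strata common to all degrees of an adic system -/

universe u

open CategoryTheory CategoryTheory.Limits AlgebraicGeometry Opposite Topology TopologicalSpace

namespace Groth.Agent.EtModWLib

set_option backward.isDefEq.respectTransparency.types false

variable {Λ : Type (u + 1)} [CommRing Λ] {X : Scheme.{u}} {I : Ideal Λ} {F : ARSys.PS (EtModW.Mod Λ X)}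

/-- local constancy of all degrees after pulling back -/
def UConst (F : ARSys.PS (EtModW.Mod Λ X)) {T : Scheme.{u}} (g : T ⟶ X) : Prop :=
  ∀ n : ℕ, EtModW.IsFTLocConst Λ ((EtModW.pull Λ g).obj (F.obj (op n)))

theorem UConst.comp {T S : Scheme.{u}} {g : T ⟶ X} (h : UConst F g) (f : S ⟶ T) : UConst F (f ≫ g) := fun n =>
  isFTLocConst_of_iso ((pullCompMod f g).app _).symm (isFTLocConst_pull f (h n))

variable [IsNoetherianRing Λ] [IsLocallyNoetherian X]

/-- one piece for all degrees near every point along its closure -/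
theorem exists_uniform_piece (hF : ARSys.IsAdic I F) (hc : EtModW.IsConstructible Λ (F.obj (op 0))) (x : X) :
    ∃ (V : X.Opens) (T : Scheme.{u}) (g : T ⟶ X), x ∈ V ∧ IsImmersion g ∧
      Set.range g.base = (V : Set X) ∩ closure {x} ∧ UConst F g := by
  obtain ⟨U, hU, hxU, -⟩ := exists_isAffineOpen_mem_and_subset (U := (⊤ : X.Opens)) (x := x) trivial
  obtain ⟨n, E, hE, -, hu⟩ := exists_pieces (hc U hU)
  obtain ⟨k, hk⟩ := Set.mem_iUnion.1 (hu.ge hxU)
  obtain ⟨O, C, hO, hC, e⟩ := (hE k).isLocallyClosed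
  rw [e] at hk
  obtain ⟨T, g, hg, hr, hT⟩ := (hE k).mono
    (fun y hy => e ▸ ⟨hy.1, closure_minimal (by simpa using hk.2) hC hy.2⟩)
    (hO.isLocallyClosed.inter (isClosed_closure (s := ({x} : Set X))).isLocallyClosed)
  obtain ⟨t, ht⟩ : x ∈ Set.range g.base := hr.ge ⟨hk.1, subset_closure rfl⟩
  have : IsLocallyNoetherian T := LocallyOfFiniteType.isLocallyNoetherian g
  have hgen : ∀ y, t ⤳ y := fun y => g.isEmbedding.isInducing.specializes_iff.1
    (ht.symm ▸ specializes_iff_mem_closure.2 ((hr.le ⟨y, rfl⟩).2))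
  obtain ⟨W, htW, hW⟩ := exists_open_isFTLocConst hgen
    (G := F ⋙ EtModW.pull Λ g) (isAdic_map (EtModW.pull Λ g) (pullPushAdj Λ g) hF) hT
  obtain ⟨W₀, hW₀, hWW⟩ := g.isEmbedding.isInducing.isOpen_iff.1 W.2
  refine ⟨⟨O, hO⟩ ⊓ ⟨W₀, hW₀⟩, W.toScheme, W.ι ≫ g, ⟨hk.1, ?_⟩, inferInstance, ?_,
    fun n => isFTLocConst_of_iso ((pullCompMod W.ι g).app _).symm (hW n)⟩
  · rw [← ht]
    exact hWW.ge htW
  · rw [Scheme.Hom.comp_base, TopCat.coe_comp, Set.range_comp, W.range_ι, show (W : Set T) = g.base ⁻¹' W₀ from hWW.symm,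
      Set.image_preimage_eq_inter_range, hr]
    exact Set.ext fun y => ⟨fun ⟨a, b, c⟩ => ⟨⟨b, a⟩, c⟩, fun ⟨⟨a, b⟩, c⟩ => ⟨b, a, c⟩⟩

/-- finitely many pieces for all degrees cover a Noetherian scheme -/
theorem exists_uniform_cover [CompactSpace X] (hF : ARSys.IsAdic I F)
    (hc : EtModW.IsConstructible Λ (F.obj (op 0))) :
    ∃ (m : ℕ) (T : Fin m → Scheme.{u}) (g : ∀ i, T i ⟶ X), (∀ i, IsImmersion (g i)) ∧
      (⋃ i, Set.range (g i).base) = Set.univ ∧ ∀ i, UConst F (g i) := by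
  have : IsNoetherian X := {}
  obtain ⟨m, E, hE, hcov⟩ : ∃ (m : ℕ) (E : Fin m → Σ T : Scheme.{u}, T ⟶ X),
      (∀ i, IsImmersion (E i).2 ∧ UConst F (E i).2) ∧ (Set.univ : Set X) ⊆ ⋃ i, Set.range (E i).2.base := by
    refine SpecLib.irred_induction (P := fun C : Set X => ∃ (m : ℕ) (E : Fin m → Σ T : Scheme.{u}, T ⟶ X),
      (∀ i, IsImmersion (E i).2 ∧ UConst F (E i).2) ∧ C ⊆ ⋃ i, Set.range (E i).2.base)
      ⟨0, Fin.elim0, fun k => k.elim0, by simp⟩ (fun A B _ _ => ?_) (fun Y hY hirr ih => ?_) isClosed_univ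
    · rintro ⟨n, E, hE, hA⟩ ⟨m, E', hE', hB⟩
      refine ⟨n + m, Fin.append E E', fun k => ?_, Set.union_subset (hA.trans ?_) (hB.trans ?_)⟩
      · refine Fin.addCases (fun i => ?_) (fun i => ?_) k
        · rw [Fin.append_left]; exact hE i
        · rw [Fin.append_right]; exact hE' i
      · exact Set.iUnion_subset fun i => Set.subset_iUnion_of_subset (Fin.castAdd m i) (by rw [Fin.append_left])
      · exact Set.iUnion_subset fun i => Set.subset_iUnion_of_subset (Fin.natAdd n i) (by rw [Fin.append_right])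
    · have hx : IsGenericPoint hirr.genericPoint Y := by
        simpa [hY.closure_eq] using hirr.isGenericPoint_genericPoint_closure
      obtain ⟨V, T, g, hxV, hg, hr, hu⟩ := exists_uniform_piece hF hc hirr.genericPoint
      obtain ⟨m, E, hE, hEc⟩ := ih (Y ∩ (V : Set X)ᶜ) (hY.inter V.2.isClosed_compl)
        (Set.inter_subset_left.ssubset_of_ne fun e => (e.ge hx.mem).2 hxV)
      refine ⟨m + 1, Fin.cons ⟨T, g⟩ E, fun k => ?_, fun y hy => ?_⟩
      · cases k using Fin.cases with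
        | zero => exact ⟨hg, hu⟩
        | succ i => exact hE i
      · by_cases hyV : y ∈ V
        · exact Set.mem_iUnion.2 ⟨0, hr.ge ⟨hyV, (hx.specializes hy).mem_closure⟩⟩
        · obtain ⟨i, hi⟩ := Set.mem_iUnion.1 (hEc ⟨hy, hyV⟩)
          exact Set.mem_iUnion.2 ⟨i.succ, hi⟩
  exact ⟨m, fun i => (E i).1, fun i => (E i).2, fun i => (hE i).1,
    Set.eq_univ_of_univ_subset hcov, fun i => (hE i).2⟩

/-- a dense open on which all degrees are locally constant -/
theorem exists_uniform_dense_open [CompactSpace X] (hF : ARSys.IsAdic I F)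
    (hc : EtModW.IsConstructible Λ (F.obj (op 0))) : ∃ U : X.Opens, Dense (U : Set X) ∧ UConst F U.ι := by
  have : IsNoetherian X := {}
  let good : Set X.Opens := {O | UConst F O.ι}
  refine ⟨sSup good, dense_iff_inter_open.2 fun W hW ⟨x, hx⟩ => ?_, fun n => isFTLocConst_of_openCover fun a => ?_⟩
  · have hZ := irreducibleComponent_mem_irreducibleComponents x
    obtain ⟨o, ho, ⟨q, hq⟩, hoZ⟩ := NoetherianSpace.exists_isOpen_nonempty_subset_irreducibleComponent _ hZ
    have hg : IsGenericPoint hZ.1.genericPoint (irreducibleComponent x) := by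
      simpa [(isClosed_irreducibleComponent (x := x)).closure_eq] using hZ.1.isGenericPoint_genericPoint_closure
    obtain ⟨V, T, g, hyV, hgi, hr, hu⟩ := exists_uniform_piece hF hc hZ.1.genericPoint
    have hyo : hZ.1.genericPoint ∈ o := (hg.mem_open_set_iff ho).2 ⟨q, hoZ hq, hq⟩
    let N : X.Opens := V ⊓ ⟨o, ho⟩
    let P := pullback N.ι g
    have : IsImmersion (pullback.fst N.ι g) := MorphismProperty.pullback_fst _ _ hgi
    have : Surjective (pullback.fst N.ι g) := ⟨fun a => by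
      have : N.ι.base a ∈ Set.range g.base := hr.ge ⟨a.2.1, (hg.specializes (hoZ a.2.2)).mem_closure⟩
      exact (Scheme.Pullback.range_fst N.ι g).ge this⟩
    have hN : N ∈ good := fun n => isFTLocConst_of_pull_surjective (pullback.fst N.ι g) (by
      refine isFTLocConst_of_iso ?_ (hu.comp (pullback.snd N.ι g) n)
      exact eqToIso (congrArg (fun k => (EtModW.pull Λ k).obj (F.obj (op n))) pullback.condition.symm) ≪≫
        (pullCompMod (pullback.fst N.ι g) N.ι).app _)
    exact ⟨_, (hg.specializes mem_irreducibleComponent).mem_open hW hx,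
      Opens.mem_sSup.2 ⟨N, hN, hyV, hyo⟩⟩
  · obtain ⟨(O : X.Opens), hO, haO⟩ := Opens.mem_sSup.1 a.2
    let U : X.Opens := sSup good
    refine ⟨U.ι ⁻¹ᵁ O, haO, isFTLocConst_of_iso ?_ ((UConst.comp (show UConst F O.ι from hO)
      (IsOpenImmersion.lift O.ι ((U.ι ⁻¹ᵁ O).ι ≫ U.ι) ?_)) n)⟩
    · exact eqToIso (congrArg (fun k => (EtModW.pull Λ k).obj (F.obj (op n))) (IsOpenImmersion.lift_fac _ _ _)) ≪≫
        (pullCompMod (U.ι ⁻¹ᵁ O).ι U.ι).app _
    · rintro _ ⟨b, rfl⟩
      rw [O.range_ι]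
      exact b.2

end Groth.Agent.EtModWLib
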