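import Groth.Agent.EtModWLib.EpsMod
import Groth.Agent.EtModWLib.Uniform.Strata

/-! systems on the pro-etale site coming from the etale site -/

universe u

open CategoryTheory CategoryTheory.Limits AlgebraicGeometry Opposite

namespace Groth.Agent.EtModWLib

set_option backward.isDefEq.respectTransparency.types false

variable (Λ : Type (u + 1)) [CommRing Λ] {T X : Scheme.{u}} (g : T ⟶ X)
  [ProEtS.EpsCont T] [ProEtS.EpsCont X] [ProEtS.PCont g]

/-- base change commutes with the inclusion of the etale site in the pro-etale site -/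
noncomputable def bcEpsIso : EtCoh.bc g ⋙ ProEtS.eps T ≅ ProEtS.eps X ⋙ ProEtS.bcP g :=
  NatIso.ofComponents (fun V => MorphismProperty.Over.isoMk (Iso.refl (pullback V.hom g)) (Category.id_comp _))
    fun {V W} f => by
      refine MorphismProperty.Over.Hom.ext ?_
      refine (Category.comp_id _).trans (Eq.trans ?_ (Category.id_comp _).symm)
      rfl

/-- inverse image along `g` commutes with inverse image to the pro-etale site -/
noncomputable def pullEpsIso :
    EtModW.pull Λ g ⋙ EtModW.epsPullMod Λ T ≅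
    EtModW.epsPullMod Λ X ⋙
      (ProEtS.bcP g).sheafPullback (ModuleCat.{u + 1} Λ) (Scheme.ProEt.topology X) (Scheme.ProEt.topology T) :=
  haveI := Functor.isContinuous_comp (ProEtS.eps X) (ProEtS.bcP g) X.smallEtaleTopology (Scheme.ProEt.topology X) (Scheme.ProEt.topology T)
  Adjunction.leftAdjointUniq
    (((pullPushAdj Λ g).comp (epsAdjMod (Λ := Λ) (X := T))).ofNatIsoRight
      (Functor.sheafPushforwardContinuousComp' (F := EtCoh.bc g) (G := ProEtS.eps T)
        (FG := ProEtS.eps X ⋙ ProEtS.bcP g) (bcEpsIso g)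
        (ModuleCat.{u + 1} Λ) X.smallEtaleTopology T.smallEtaleTopology (Scheme.ProEt.topology T)))
    (((epsAdjMod (Λ := Λ) (X := X)).comp ((ProEtS.bcP g).sheafAdjunctionContinuous (ModuleCat.{u + 1} Λ)
      (Scheme.ProEt.topology X) (Scheme.ProEt.topology T))).ofNatIsoRight
      (Functor.sheafPushforwardContinuousComp' (F := ProEtS.eps X) (G := ProEtS.bcP g)
        (FG := ProEtS.eps X ⋙ ProEtS.bcP g) (Iso.refl _)
        (ModuleCat.{u + 1} Λ) X.smallEtaleTopology (Scheme.ProEt.topology X) (Scheme.ProEt.topology T)))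

omit T g [ProEtS.EpsCont T] [ProEtS.PCont g]

variable {Λ}

/-- a tower of quotients of one sheaf with etale terms comes from an adic system on the etale site -/
theorem exists_adic_of_quot (I : Ideal Λ) (F : EtModW.ModP Λ X) (Q : ℕᵒᵖ ⥤ EtModW.ModP Λ X)
    (p : (Functor.const ℕᵒᵖ).obj F ⟶ Q) (hQ : ∀ n : ℕ, ARSys.IsQuot (I ^ (n + 1)) (p.app (op n)))
    (hc : ∀ n : ℕ, ∃ E : EtModW.Mod Λ X, EtModW.IsConstructible Λ E ∧
      Nonempty ((EtModW.epsPullMod Λ X).obj E ≅ Q.obj (op n))) :
    ∃ G : ARSys.PS (EtModW.Mod Λ X), ARSys.IsAdic I G ∧ (∀ n : ℕ, EtModW.IsConstructible Λ (G.obj (op n))) ∧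
      Nonempty (G ⋙ EtModW.epsPullMod Λ X ≅ Q) := by
  have hG : ∀ j, (EtModW.epsPullMod Λ X).essImage (Q.obj j) := fun j => by
    obtain ⟨E, -, h⟩ := hc j.unop
    exact ⟨E, h⟩
  let G := Functor.essImage.liftFunctor Q (EtModW.epsPullMod Λ X) hG
  let e : G ⋙ EtModW.epsPullMod Λ X ≅ Q := Functor.essImage.liftFunctorCompIso Q (EtModW.epsPullMod Λ X) hG
  refine ⟨G, ⟨fun n a ha => ?_, fun n m h => ⟨fun a ha => ?_, fun Y φ hφ => ?_⟩⟩, fun n => ?_, ⟨e⟩⟩
  case refine_1 =>
    refine (EtModW.epsPullMod Λ X).map_injective ?_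
    rw [Functor.map_smul, Functor.map_zero, CategoryTheory.Functor.map_id]
    exact ARLib.killedBy_of_mono (hQ n).1 (e.hom.app (op n)) a ha
  case refine_2 =>
    refine (EtModW.epsPullMod Λ X).map_injective ?_
    rw [Functor.map_smul, Functor.map_zero, CategoryTheory.Functor.map_id]
    exact ARLib.killedBy_of_mono (hQ n).1 (e.hom.app (op n)) a ha
  case refine_4 =>
    obtain ⟨E, hE, ⟨i⟩⟩ := hc n
    exact isConstructible_of_iso ((EtModW.epsPullMod Λ X).preimageIso (i ≪≫ (e.app (op n)).symm)) hE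
  case refine_3 =>
    let Y' := (EtModW.epsPullMod Λ X).obj Y
    let φ' := e.inv.app (op m) ≫ (EtModW.epsPullMod Λ X).map φ
    have hk : ARSys.HomKilledBy (I ^ (n + 1)) φ' := fun a ha => by
      rw [← Linear.comp_smul, ← Functor.map_smul, hφ a ha, Functor.map_zero, comp_zero]
    obtain ⟨ψ, hψ, hu⟩ := (hQ n).2 Y' (p.app (op m) ≫ φ') (ARLib.killed_comp_left hk _)
    have htr : p.app (op n) = p.app (op m) ≫ ARSys.tr Q h := by
      have := p.naturality (homOfLE h).op
      simpa using this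
    have hm : ARSys.tr Q h ≫ ψ = φ' := by
      obtain ⟨χ, -, hχ⟩ := (hQ m).2 Y' (p.app (op m) ≫ φ')
        (ARLib.killed_mono (ARLib.killed_comp_left hk _) (Ideal.pow_le_pow_right (by omega)))
      refine (hχ _ ?_).trans (hχ _ rfl).symm
      show p.app (op m) ≫ ARSys.tr Q h ≫ ψ = p.app (op m) ≫ φ'
      rw [← Category.assoc, ← htr]
      exact hψ
    obtain ⟨ψ₀, hψ₀⟩ := (EtModW.epsPullMod Λ X).map_surjective (e.hom.app (op n) ≫ ψ)
    refine ⟨ψ₀, (EtModW.epsPullMod Λ X).map_injective ?_, fun ψ₁ h₁ => (EtModW.epsPullMod Λ X).map_injective ?_⟩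
    · rw [Functor.map_comp, hψ₀]
      refine (Category.assoc _ _ _).symm.trans ?_
      rw [show (EtModW.epsPullMod Λ X).map (ARSys.tr G h) ≫ e.hom.app (op n) = e.hom.app (op m) ≫ ARSys.tr Q h from
        e.hom.naturality (homOfLE h).op, Category.assoc, hm]
      exact Iso.hom_inv_id_app_assoc e (op m) _
    · rw [hψ₀, ← hu (e.inv.app (op n) ≫ (EtModW.epsPullMod Λ X).map ψ₁) ?_]
      · exact (Iso.hom_inv_id_app_assoc e (op n) _).symm
      · dsimp only [φ']
        rw [htr, Category.assoc, ← h₁, Functor.map_comp]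
        refine congrArg (fun q => p.app (op m) ≫ q) ?_
        refine (Category.assoc _ _ _).symm.trans (Eq.trans ?_ (Category.assoc _ _ _))
        exact congrArg (fun q => q ≫ (EtModW.epsPullMod Λ X).map ψ₁) (e.inv.naturality (homOfLE h).op)

end Groth.Agent.EtModWLib
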