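import Groth.Agent.ARLib.Adic

/-! multiplication from lower to higher degrees in an adic system -/

universe w v u

open CategoryTheory CategoryTheory.Limits Opposite ARSys

namespace Groth.Agent.EtModWLib

set_option backward.isDefEq.respectTransparency.types false

variable {C : Type u} [Category.{v} C] [Abelian C] {A : Type w} [CommRing A] [Linear A C] {I : Ideal A} {G : PS C}
  (hG : IsAdic I G)

include hG

theorem exists_mulTo {n m : ℕ} (h : n ≤ m) {a : A} (ha : a ∈ I ^ (m - n)) :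
    ∃ μ : G.obj (op n) ⟶ G.obj (op m), tr G h ≫ μ = a • 𝟙 _ :=
  ((hG.2 n m h).2 _ (a • 𝟙 _) fun b hb => by
    rw [smul_smul]
    refine hG.1 m (b * a) ?_
    rw [show m + 1 = (n + 1) + (m - n) by omega, pow_add]
    exact Ideal.mul_mem_mul hb ha).exists

/-- multiplication by an element of `I^(m-n)`, from degree `n` to degree `m` -/
noncomputable def mulTo {n m : ℕ} (h : n ≤ m) {a : A} (ha : a ∈ I ^ (m - n)) : G.obj (op n) ⟶ G.obj (op m) :=
  (exists_mulTo hG h ha).choose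

@[reassoc]
theorem tr_mulTo {n m : ℕ} (h : n ≤ m) {a : A} (ha : a ∈ I ^ (m - n)) : tr G h ≫ mulTo hG h ha = a • 𝟙 _ :=
  (exists_mulTo hG h ha).choose_spec

omit hG in
theorem mem_pow_sub_zero {n : ℕ} {a : A} (ha : a ∈ I ^ n) : a ∈ I ^ (n - 0) := ha

/-- multiplication by an element of `I^n`, as a linear map into the morphisms from degree zero -/
noncomputable def mu (n : ℕ) : ↥(I ^ n) →ₗ[A] (G.obj (op 0) ⟶ G.obj (op n)) where
  toFun a := mulTo hG (Nat.zero_le n) (a := a.1) (mem_pow_sub_zero a.2)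
  map_add' a b := by
    have := ARLib.IsQuot.epi (hG.2 0 n (Nat.zero_le n))
    rw [← cancel_epi (tr G (Nat.zero_le n)), Preadditive.comp_add, tr_mulTo, tr_mulTo, tr_mulTo]
    exact add_smul a.1 b.1 _
  map_smul' c a := by
    have := ARLib.IsQuot.epi (hG.2 0 n (Nat.zero_le n))
    rw [← cancel_epi (tr G (Nat.zero_le n)), RingHom.id_apply, Linear.comp_smul, tr_mulTo, tr_mulTo]
    exact mul_smul c a.1 _

theorem tr_mu (n : ℕ) (a : ↥(I ^ n)) : tr G (Nat.zero_le n) ≫ mu hG n a = a.1 • 𝟙 _ :=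
  tr_mulTo hG (Nat.zero_le n) (mem_pow_sub_zero a.2)

theorem mu_tr (n : ℕ) (a : ↥(I ^ (n + 1))) : mu hG (n + 1) a ≫ tr G (Nat.le_succ n) = 0 := by
  have := ARLib.IsQuot.epi (hG.2 0 (n + 1) (Nat.zero_le _))
  rw [← cancel_epi (tr G (Nat.zero_le (n + 1))), ← Category.assoc, tr_mu, Linear.smul_comp, Category.id_comp,
    comp_zero]
  exact (ARLib.IsQuot.homKilledBy (hG.2 n (n + 1) (Nat.le_succ n))) a.1 a.2

omit hG in
theorem mul_mem_pow {n m : ℕ} (h : n ≤ m) {b a : A} (hb : b ∈ I ^ (m - n)) (ha : a ∈ I ^ n) : b * a ∈ I ^ m := by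
  have := Ideal.mul_mem_mul hb ha
  rwa [← pow_add, Nat.sub_add_cancel h] at this

theorem mu_mul {n m : ℕ} (h : n ≤ m) {b : A} (hb : b ∈ I ^ (m - n)) (a : ↥(I ^ n)) :
    mu hG n a ≫ mulTo hG h hb = mu hG m ⟨b * a.1, mul_mem_pow h hb a.2⟩ := by
  have := ARLib.IsQuot.epi (hG.2 0 m (Nat.zero_le _))
  rw [← cancel_epi (tr G (Nat.zero_le m)), tr_mu, ← ARLib.tr_tr G (Nat.zero_le n) h, Category.assoc,
    reassoc_of% (tr_mu hG n a), Linear.smul_comp, Category.id_comp, Linear.comp_smul, tr_mulTo, smul_smul, mul_comm]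

end Groth.Agent.EtModWLib
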