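import Groth.Agent.EtModWLib.Uniform.ReesGen
import Groth.Agent.EtModWLib.Uniform.AdicMul
import Groth.Agent.EtModWLib.Linear
import Groth.Agent.EtModWLib.Constr
import Groth.Agent.EtModWLib.MapSystems
import Groth.Agent.EtFound.NoethACC

/-! an adic system that starts locally constant is locally constant on one neighbourhood of a generic point -/

universe u

open CategoryTheory CategoryTheory.Limits AlgebraicGeometry Opposite Topology

namespace Groth.Agent.EtModWLib

open FTConst (stalk_germ sect_injective Chart)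

set_option backward.isDefEq.respectTransparency.types false

variable {Λ : Type (u + 1)} [CommRing Λ] {X : Scheme.{u}}

/-- vanishing of a germ passes to generisations -/
theorem germ_zero_of_specializes {R : EtModW.Mod Λ X} {U : X.Etale} (s : R.obj.obj (op U))
    {Ω : Type u} [Field Ω] [IsSepClosed Ω] {ξ : Spec (CommRingCat.of Ω) ⟶ X}
    (u : (Scheme.pointSmallEtale ξ).fiber.obj U)
    {k : Type u} [Field k] [IsSepClosed k] {ζ : Spec (CommRingCat.of k) ⟶ X}
    (z : (Scheme.pointSmallEtale ζ).fiber.obj U)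
    (h : (u.left : Spec (CommRingCat.of Ω) ⟶ U.left).base (default : Spec (CommRingCat.of Ω)) ⤳
      (z.left : Spec (CommRingCat.of k) ⟶ U.left).base (default : Spec (CommRingCat.of k)))
    (h0 : (Scheme.pointSmallEtale ζ).toPresheafFiber U z R.obj s = 0) :
    (Scheme.pointSmallEtale ξ).toPresheafFiber U u R.obj s = 0 := by
  rw [← map_zero ((Scheme.pointSmallEtale ζ).toPresheafFiber U z R.obj).hom] at h0
  obtain ⟨V, f, v, hv, hf⟩ := ((Scheme.pointSmallEtale ζ).toPresheafFiber_eq_iff' U z _ _).1 h0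
  rw [map_zero] at hf
  subst hv
  have := EtFound.etale_left f
  obtain ⟨y₀, hy₀⟩ := h.mem_open f.left.isOpenMap.isOpen_range
    ⟨(v.left : Spec (CommRingCat.of k) ⟶ V.left).base (default : Spec (CommRingCat.of k)),
      (Scheme.Hom.comp_apply _ _ _).symm⟩
  obtain ⟨v₀, hv₀, -⟩ := EtFound.exists_lift_point f u y₀ hy₀
  rw [← hv₀, ← (Scheme.pointSmallEtale ξ).toPresheafFiber_w_apply, hf, map_zero]

/-- evaluation of morphisms of sheaves at a section -/
def evalSect {F G : EtModW.Mod Λ X} (V : X.Etale) (s : F.obj.obj (op V)) : (F ⟶ G) →ₗ[Λ] G.obj.obj (op V) where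
  toFun f := f.hom.app (op V) s
  map_add' _ _ := rfl
  map_smul' _ _ := rfl

/-- finitely many sections with vanishing germs vanish on one neighbourhood -/
theorem exists_common_vanish {Ω : Type u} [Field Ω] [IsSepClosed Ω] {ξ : Spec (CommRingCat.of Ω) ⟶ X} {V : X.Etale}
    (u : (Scheme.pointSmallEtale ξ).fiber.obj V) {κ : Type*} (s : Finset κ) (G : κ → EtModW.Mod Λ X)
    (σ : ∀ x, (G x).obj.obj (op V))
    (h : ∀ x ∈ s, (Scheme.pointSmallEtale ξ).toPresheafFiber V u (G x).obj (σ x) = 0) :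
    ∃ (W : X.Etale) (g : W ⟶ V) (w : (Scheme.pointSmallEtale ξ).fiber.obj W),
      (Scheme.pointSmallEtale ξ).fiber.map g w = u ∧ ∀ x ∈ s, (G x).obj.map g.op (σ x) = 0 := by
  classical
  induction s using Finset.induction with
  | empty =>
    exact ⟨V, 𝟙 V, u, Functor.map_id_apply _ _ _, fun x hx => absurd hx (Finset.notMem_empty x)⟩
  | @insert a s _ ih =>
    obtain ⟨W, g, w, hw, hs⟩ := ih fun x hx => h x (Finset.mem_insert_of_mem hx)
    have h0 : (Scheme.pointSmallEtale ξ).toPresheafFiber W w (G a).obj ((G a).obj.map g.op (σ a)) =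
        (Scheme.pointSmallEtale ξ).toPresheafFiber W w (G a).obj 0 := by
      rw [map_zero, (Scheme.pointSmallEtale ξ).toPresheafFiber_w_apply, hw]
      exact h a (Finset.mem_insert_self a s)
    obtain ⟨W', f, w', hw', hf⟩ := ((Scheme.pointSmallEtale ξ).toPresheafFiber_eq_iff' W w _ _).1 h0
    refine ⟨W', f ≫ g, w', ?_, fun x hx => ?_⟩
    · rw [Functor.map_comp_apply]
      exact (congrArg _ hw').trans hw
    · rw [op_comp, Functor.map_comp_apply]
      rcases Finset.mem_insert.1 hx with rfl | hx'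
      · exact hf.trans (map_zero _)
      · rw [hs x hx', map_zero]

variable {I : Ideal Λ} {G : ARSys.PS (EtModW.Mod Λ X)}

/-- the elements of the stalk killed by the transition map are multiples by the power of the ideal -/
theorem mem_smul_top_of_tr_eq_zero [IsNoetherianRing Λ] (hG : ARSys.IsAdic I G) {Ω : Type u} [Field Ω]
    [IsSepClosed Ω] (ξ : Spec (CommRingCat.of Ω) ⟶ X) (n : ℕ) (x : (EtModW.stalk Λ ξ).obj (G.obj (op (n + 1))))
    (hx : (EtModW.stalk Λ ξ).map (ARSys.tr G (Nat.le_succ n)) x = 0) :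
    x ∈ (I ^ (n + 1)) • (⊤ : Submodule Λ ((EtModW.stalk Λ ξ).obj (G.obj (op (n + 1))))) := by
  let N := (I ^ (n + 1)) • (⊤ : Submodule Λ ((EtModW.stalk Λ ξ).obj (G.obj (op (n + 1)))))
  have hq := isQuot_map_of_fg (EtModW.stalk Λ ξ) (IsNoetherian.noetherian (I ^ (n + 1)))
    (hG.2 n (n + 1) (Nat.le_succ n))
  obtain ⟨ψ, hψ, -⟩ := hq.2 (ModuleCat.of Λ (((EtModW.stalk Λ ξ).obj (G.obj (op (n + 1)))) ⧸ N))
    (ModuleCat.ofHom N.mkQ) fun a ha => ModuleCat.hom_ext (LinearMap.ext fun y =>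
      (Submodule.Quotient.mk_eq_zero N (x := a • y)).2 (Submodule.smul_mem_smul ha trivial))
  refine (Submodule.Quotient.mk_eq_zero N).1 ?_
  refine (ConcreteCategory.congr_hom hψ x).symm.trans ((ConcreteCategory.comp_apply _ _ x).trans ?_)
  rw [hx, map_zero]

/-- an adic system whose bottom term is finite locally constant is finite locally constant on one
neighbourhood of a point generic in everything -/
theorem exists_open_isFTLocConst [IsNoetherianRing Λ] [IsLocallyNoetherian X] {t : X} (ht : ∀ y, t ⤳ y)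
    (hG : ARSys.IsAdic I G) (h0 : EtModW.IsFTLocConst Λ (G.obj (op 0))) :
    ∃ U : X.Opens, t ∈ U ∧ ∀ n : ℕ, EtModW.IsFTLocConst Λ ((EtModW.pull Λ U.ι).obj (G.obj (op n))) := by
  obtain ⟨V, p, hp, ⟨c⟩⟩ := FTConst.exists_chart h0 t
  obtain ⟨r, g, hg⟩ := Module.Finite.exists_fin (R := Λ) (M := c.M)
  obtain ⟨Ω, _, _, ξ, u, hu⟩ := EtFound.exists_algClosed_point V p
  let Φ := Scheme.pointSmallEtale ξ
  let Ψ : ∀ n, (Fin r → ↥(I ^ n)) →ₗ[Λ] (G.obj (op n)).obj.obj (op V) := fun n =>
    LinearMap.lsum Λ (fun _ : Fin r => ↥(I ^ n)) Λ fun i => (evalSect V (c.φ (g i))).comp (mu hG n)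
  have hΨ : ∀ n v, Ψ n v = ∑ i, (mu hG n (v i)).hom.app (op V) (c.φ (g i)) := fun n v => by
    simp only [Ψ, LinearMap.lsum_apply]
    rw [LinearMap.sum_apply]
    rfl
  let R : ℕ → Set (Fin r → Λ) := fun n =>
    {v | ∃ hv : ∀ i, v i ∈ I ^ n, Φ.toPresheafFiber V u (G.obj (op n)).obj (Ψ n fun i => ⟨v i, hv i⟩) = 0}
  obtain ⟨s, hs, hgen⟩ := exists_rees_gens I R fun n x hx => hx.1
  -- one neighbourhood where all the generating relations hold
  obtain ⟨W₁, g₁, u₁, hu₁, hW₁⟩ := exists_common_vanish u s.attach (fun x => G.obj (op x.1.1))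
    (fun x => Ψ x.1.1 fun i => ⟨x.1.2 i, (hs x.1 x.2).1 i⟩) fun x _ => (hs x.1 x.2).2
  obtain ⟨O, hpO, hO⟩ := EtFound.exists_generic_open ht W₁
    ((EtFound.base_of_point u₁).trans ((EtFound.base_of_point u).symm.trans ((congrArg _ hu).trans hp)))
  have : AlgebraicGeometry.Etale W₁.hom := W₁.prop
  let V' : X.Etale := Scheme.Etale.mk (O.ι ≫ W₁.hom)
  let r₁ : V' ⟶ W₁ := MorphismProperty.Over.homMk O.ι rfl
  obtain ⟨q, hq⟩ := EtFound.exists_lift_open (u₁.left : Spec (CommRingCat.of Ω) ⟶ W₁.left) O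
    fun (s : Spec (CommRingCat.of Ω)) => by
      rw [Subsingleton.elim (α := Spec (CommRingCat.of Ω)) s default]
      exact hpO
  let u' : Φ.fiber.obj V' := CategoryTheory.Over.homMk q
    ((Category.assoc _ _ _).symm.trans ((congrArg (· ≫ W₁.hom) hq).trans (CategoryTheory.Over.w u₁)))
  let g' : V' ⟶ V := r₁ ≫ g₁
  have hu' : Φ.fiber.map g' u' = u := by
    rw [Functor.map_comp_apply, show Φ.fiber.map r₁ u' = u₁ from CategoryTheory.Over.OverMorphism.ext hq]
    exact hu₁
  have hgen' : ∀ (y : V'.left),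
      (u'.left : Spec (CommRingCat.of Ω) ⟶ V'.left).base (default : Spec (CommRingCat.of Ω)) ⤳ y := fun y => by
    refine O.ι.isOpenEmbedding.isInducing.specializes_iff.1 ?_
    refine (specializes_of_eq ?_).trans (hO _ y.2)
    exact (Scheme.Hom.comp_apply _ _ _).symm.trans (congrArg (fun q : Spec (CommRingCat.of Ω) ⟶ W₁.left =>
      q.base (default : Spec (CommRingCat.of Ω))) hq)
  -- all the relations at the generic point hold on `V'`
  have hvanish : ∀ n (v : Fin r → Λ), v ∈ R n → ∃ hv : ∀ i, v i ∈ I ^ n,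
      (G.obj (op n)).obj.map g'.op (Ψ n fun i => ⟨v i, hv i⟩) = 0 := fun n v hv => by
    refine hgen n v hv (fun v => ∃ hv : ∀ i, v i ∈ I ^ n,
      (G.obj (op n)).obj.map g'.op (Ψ n fun i => ⟨v i, hv i⟩) = 0)
      ⟨fun i => (I ^ n).zero_mem, ?_⟩ (fun a b ⟨ha, ea⟩ ⟨hb, eb⟩ => ⟨fun i => (I ^ n).add_mem (ha i) (hb i), ?_⟩)
      fun x hx hd b hb => ⟨fun i => mul_mem_pow hd hb ((hs x hx).1 i), ?_⟩
    · rw [show (fun i => (⟨(0 : Fin r → Λ) i, (I ^ n).zero_mem⟩ : ↥(I ^ n))) = 0 from rfl, map_zero, map_zero]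
    · rw [show (fun i => (⟨(a + b) i, (I ^ n).add_mem (ha i) (hb i)⟩ : ↥(I ^ n))) =
        (fun i => ⟨a i, ha i⟩) + fun i => ⟨b i, hb i⟩ from rfl, map_add, map_add, ea, eb, add_zero]
    · have e : (Ψ n fun i => ⟨b * x.2 i, mul_mem_pow hd hb ((hs x hx).1 i)⟩) =
          (mulTo hG hd hb).hom.app (op V) (Ψ x.1 fun i => ⟨x.2 i, (hs x hx).1 i⟩) := by
        rw [hΨ, hΨ, map_sum]
        refine Finset.sum_congr rfl fun i _ => ?_
        rw [← mu_mul hG hd hb ⟨x.2 i, (hs x hx).1 i⟩]
        exact ConcreteCategory.comp_apply _ _ _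
      refine (congrArg ((G.obj (op n)).obj.map g'.op) e).trans ?_
      refine (NatTrans.naturality_apply (mulTo hG hd hb).hom g'.op _).symm.trans ?_
      have h1 := hW₁ ⟨x, hx⟩ (Finset.mem_attach _ _)
      rw [op_comp, Functor.map_comp_apply, h1, map_zero, map_zero]
  -- charts of the kernels
  have hK : ∀ n : ℕ, Nonempty (Chart (kernel (ARSys.tr G (Nat.le_succ n))) V') := fun n => by
    let ι' := kernel.ι (ARSys.tr G (Nat.le_succ n))
    let muK : ↥(I ^ (n + 1)) →ₗ[Λ] (G.obj (op 0) ⟶ kernel (ARSys.tr G (Nat.le_succ n))) :=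
      { toFun := fun a => kernel.lift _ (mu hG (n + 1) a) (mu_tr hG n a)
        map_add' := fun a b => by rw [← cancel_mono ι', Preadditive.add_comp]; simp [ι']
        map_smul' := fun a b => by rw [← cancel_mono ι', RingHom.id_apply, Linear.smul_comp]; simp [ι'] }
    let L : (Fin r → ↥(I ^ (n + 1))) →ₗ[Λ] (kernel (ARSys.tr G (Nat.le_succ n))).obj.obj (op V') :=
      LinearMap.lsum Λ (fun _ : Fin r => ↥(I ^ (n + 1))) Λ fun i =>
        (evalSect V' ((c.restrict g').φ (g i))).comp muK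
    have hL : ∀ v, ι'.hom.app (op V') (L v) = (G.obj (op (n + 1))).obj.map g'.op (Ψ (n + 1) v) := fun v => by
      rw [hΨ, map_sum]
      simp only [L, LinearMap.lsum_apply]
      rw [LinearMap.sum_apply, map_sum]
      refine Finset.sum_congr rfl fun i _ => ?_
      refine (ConcreteCategory.comp_apply ((muK (v i)).hom.app (op V')) (ι'.hom.app (op V')) _).symm.trans ?_
      refine (ConcreteCategory.congr_hom (congrArg (fun f : G.obj (op 0) ⟶ G.obj (op (n + 1)) => f.hom.app (op V'))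
        (kernel.lift_ι _ (mu hG (n + 1) (v i)) (mu_tr hG n (v i)))) _).trans ?_
      exact NatTrans.naturality_apply (mu hG (n + 1) (v i)).hom g'.op (c.φ (g i))
    refine ⟨{ M := ModuleCat.of Λ (LinearMap.range L), φ := ModuleCat.ofHom (LinearMap.range L).subtype, const := ?_ }⟩
    intro k _ _ ζ z
    constructor
    · refine (injective_iff_map_eq_zero _).2 ?_
      rintro ⟨_, v, rfl⟩ e
      replace e : (Scheme.pointSmallEtale ζ).toPresheafFiber V' z (kernel (ARSys.tr G (Nat.le_succ n))).obj (L v) = 0 := e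
      have h1 : (Scheme.pointSmallEtale ζ).toPresheafFiber V' z (G.obj (op (n + 1))).obj
          ((G.obj (op (n + 1))).obj.map g'.op (Ψ (n + 1) v)) = 0 := by
        rw [← hL, ← stalk_germ]
        exact (congrArg ((EtModW.stalk Λ ζ).map ι') e).trans (map_zero _)
      have h2 := germ_zero_of_specializes _ u' z (hgen' _) h1
      rw [Φ.toPresheafFiber_w_apply, hu'] at h2
      obtain ⟨hv, h3⟩ := hvanish (n + 1) (fun i => (v i).1) ⟨fun i => (v i).2, h2⟩
      refine Subtype.ext (sect_injective ι' V' ?_)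
      show ι'.hom.app (op V') (L v) = ι'.hom.app (op V') 0
      rw [hL, map_zero]
      exact h3
    · intro y
      have hmem := mem_smul_top_of_tr_eq_zero hG ζ n ((EtModW.stalk Λ ζ).map ι' y) (by
        rw [← ConcreteCategory.comp_apply, ← Functor.map_comp, kernel.condition, Functor.map_zero]
        rfl)
      suffices h : ∀ x ∈ (I ^ (n + 1)) • (⊤ : Submodule Λ ((EtModW.stalk Λ ζ).obj (G.obj (op (n + 1))))),
          ∃ v, (Scheme.pointSmallEtale ζ).toPresheafFiber V' z (G.obj (op (n + 1))).obj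
            ((G.obj (op (n + 1))).obj.map g'.op (Ψ (n + 1) v)) = x by
        obtain ⟨v, hv⟩ := h _ hmem
        refine ⟨⟨L v, v, rfl⟩, FTConst.stalk_injective ζ ι' ?_⟩
        rw [← hv, ← hL, ← stalk_germ]
        rfl
      intro x hx
      refine Submodule.smul_induction_on hx (fun a ha x' _ => ?_) fun x y ⟨v, hv⟩ ⟨w, hw⟩ => ⟨v + w, by
        rw [map_add, map_add, map_add, hv, hw]
        rfl⟩
      obtain ⟨m, hm⟩ := (c.restrict g').exists_germ z ((EtModW.stalk Λ ζ).map (ARSys.tr G (Nat.zero_le (n + 1))) x')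
      obtain ⟨d, hd⟩ := (Submodule.mem_span_range_iff_exists_fun Λ).1 (hg.ge (Submodule.mem_top (x := m)))
      refine ⟨fun i => d i • ⟨a, ha⟩, ?_⟩
      have h1 : (EtModW.stalk Λ ζ).map (mu hG (n + 1) ⟨a, ha⟩)
          ((EtModW.stalk Λ ζ).map (ARSys.tr G (Nat.zero_le (n + 1))) x') = a • x' := by
        rw [← ConcreteCategory.comp_apply, ← Functor.map_comp, tr_mu, Functor.map_smul, CategoryTheory.Functor.map_id]
        rfl
      refine Eq.trans ?_ h1
      rw [← hm, stalk_germ]
      refine congrArg _ ?_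
      rw [hΨ, map_sum, ← hd]
      refine Eq.trans (Finset.sum_congr rfl fun i _ => ?_)
        (map_sum (((mu hG (n + 1) ⟨a, ha⟩).hom.app (op V')).hom.comp (c.restrict g').φ.hom)
          (fun i => d i • g i) Finset.univ).symm
      rw [map_smul, map_smul]
      refine (map_smul ((G.obj (op (n + 1))).obj.map g'.op).hom (d i) _).trans ?_
      exact congrArg (d i • ·) (NatTrans.naturality_apply (mu hG (n + 1) ⟨a, ha⟩).hom g'.op (c.φ (g i))).symm
  -- the image of `V'`
  have : AlgebraicGeometry.Etale V'.hom := V'.prop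
  let U : X.Opens := ⟨Set.range V'.hom.base, V'.hom.isOpenMap.isOpen_range⟩
  have hchart : ∀ (F : EtModW.Mod Λ X), Chart F V' → EtModW.IsFTLocConst Λ ((EtModW.pull Λ U.ι).obj F) :=
    fun F d => FTConst.isFTLocConst_of_charts _ fun x => by
      obtain ⟨z, hz⟩ : U.ι.base x ∈ (U : Set X) := x.2
      obtain ⟨w, -, hw⟩ := Scheme.Pullback.exists_preimage_pullback (f := V'.hom) (g := U.ι) z x hz
      exact ⟨(EtCoh.bc U.ι).obj V', w, hw, ⟨{
        M := d.M
        φ := d.φ ≫ ((pullPushAdj Λ U.ι).unit.app F).hom.app (op V')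
        const := EtFound.constBy_pull U.ι d.const }⟩⟩
  refine ⟨U, ⟨_, (EtFound.base_of_point u').trans ((EtFound.base_of_point u).symm.trans
    ((congrArg _ hu).trans hp))⟩, fun n => ?_⟩
  induction n with
  | zero => exact hchart _ (c.restrict g')
  | succ n ih =>
    have : Epi (ARSys.tr G (Nat.le_succ n)) := ARLib.IsQuot.epi (hG.2 n (n + 1) (Nat.le_succ n))
    let S : ShortComplex (EtModW.Mod Λ X) :=
      ShortComplex.mk (kernel.ι (ARSys.tr G (Nat.le_succ n))) (ARSys.tr G (Nat.le_succ n)) (kernel.condition _)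
    have hS : S.ShortExact := { exact := ShortComplex.exact_kernel _ }
    exact FTConst.isFTLocConst_of_extension (hS.map_of_exact (EtModW.pull Λ U.ι)) (hchart _ (hK n).some) ih

end Groth.Agent.EtModWLib
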