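import Mathlib.RingTheory.ReesAlgebra
import Mathlib.RingTheory.Noetherian.Basic

/-! finitely many relations generate a graded family of relations among powers of an ideal -/

universe v w

namespace Groth.Agent.EtModWLib

open Polynomial

/-- a graded family of tuples in the powers of an ideal is generated by finitely many of its members -/
theorem exists_rees_gens {A : Type v} [CommRing A] [IsNoetherianRing A] (I : Ideal A) {ι : Type w} [Finite ι]
    (R : ℕ → Set (ι → A)) (hR : ∀ n, ∀ x ∈ R n, ∀ i, x i ∈ I ^ n) :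
    ∃ s : Finset ((_ : ℕ) × (ι → A)), (∀ x ∈ s, x.2 ∈ R x.1) ∧
      ∀ (n : ℕ) (v : ι → A), v ∈ R n → ∀ P : (ι → A) → Prop, P 0 → (∀ a b, P a → P b → P (a + b)) →
        (∀ x ∈ s, x.1 ≤ n → ∀ b ∈ I ^ (n - x.1), P (b • x.2)) → P v := by
  classical
  have := Fintype.ofFinite ι
  let S : Set (ι → reesAlgebra I) :=
    {f | ∃ (n : ℕ) (v : ι → A), v ∈ R n ∧ ∀ i, (f i : A[X]) = monomial n (v i)}
  obtain ⟨T, hTS, hT⟩ := (Submodule.fg_span_iff_fg_span_finset_subset S).1
    (IsNoetherian.noetherian (Submodule.span (reesAlgebra I) S))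
  have hex : ∀ f : T, ∃ x : (_ : ℕ) × (ι → A), x.2 ∈ R x.1 ∧ ∀ i, (f.1 i : A[X]) = monomial x.1 (x.2 i) :=
    fun f => by
      obtain ⟨d, w, h1, h2⟩ := hTS f.2
      exact ⟨⟨d, w⟩, h1, h2⟩
  choose x hx hf using hex
  refine ⟨Finset.univ.image x, fun y hy => ?_, fun n v hv P h0 hadd hgen => ?_⟩
  · obtain ⟨f, -, rfl⟩ := Finset.mem_image.1 hy
    exact hx f
  let F : ι → reesAlgebra I := fun i => ⟨monomial n (v i), reesAlgebra.monomial_mem.2 (hR n v hv i)⟩
  have hF : F ∈ Submodule.span (reesAlgebra I) (T : Set (ι → reesAlgebra I)) :=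
    hT ▸ Submodule.subset_span ⟨n, v, hv, fun i => rfl⟩
  obtain ⟨c, hc⟩ := (Submodule.mem_span_finset').1 hF
  let term : T → ι → A := fun f i => ((c f : A[X]) * monomial (x f).1 ((x f).2 i)).coeff n
  have hv' : v = ∑ f : T, term f := by
    funext i
    have h1 := congrArg (fun G : ι → reesAlgebra I => ((G i : A[X]).coeff n)) hc
    simp only [Finset.sum_apply, Pi.smul_apply, smul_eq_mul, AddSubmonoidClass.coe_finsetSum, MulMemClass.coe_mul, hf,
      finsetSum_coeff] at h1
    rw [Finset.sum_apply]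
    refine Eq.trans ?_ h1.symm
    exact (coeff_monomial_same n (v i)).symm
  rw [hv']
  refine Finset.sum_induction _ P hadd h0 fun f _ => ?_
  by_cases hd : (x f).1 ≤ n
  · have e : term f = ((c f : A[X]).coeff (n - (x f).1)) • (x f).2 := funext fun i => by
      rw [Pi.smul_apply, smul_eq_mul]
      show ((c f : A[X]) * monomial (x f).1 ((x f).2 i)).coeff n = _
      rw [← C_mul_X_pow_eq_monomial, ← mul_assoc, coeff_mul_X_pow', if_pos hd, coeff_mul_C]
    rw [e]
    exact hgen _ (Finset.mem_image_of_mem x (Finset.mem_univ f)) hd _ ((c f).2 _)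
  · have e : term f = 0 := funext fun i => by
      show ((c f : A[X]) * monomial (x f).1 ((x f).2 i)).coeff n = 0
      rw [← C_mul_X_pow_eq_monomial, ← mul_assoc, coeff_mul_X_pow', if_neg hd]
    rw [e]
    exact h0

end Groth.Agent.EtModWLib
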